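import Cfsg.Agent.Lib.Jordan.AlmostCyclic.Defs
import Mathlib.GroupTheory.SpecificGroups.ZGroup
import Mathlib.GroupTheory.Sylow

/-!
# Almost Sylow-cyclic groups: inheritance and small abelian subgroups

Subgroups and quotients inherit the property; commuting elements of the same odd prime order generate
the same subgroup; an abelian subgroup of prime exponent has a solvable automorphism group.
-/

set_option autoImplicit false
set_option linter.style.haveILetI false

namespace CfsgLib.Jordan.AlmostCyclic

/-- In a finite cyclic subgroup the solutions of `x ^ n = 1` are the powers of an element of order `n`. -/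
theorem mem_zpowers_of_cyclic {G : Type*} [Group G] [Finite G] {C : Subgroup G} [IsCyclic C] {a x : G}
    {n : ℕ} (hn : orderOf a = n) (ha : a ∈ C) (hx : x ∈ C) (hxn : x ^ n = 1) :
    x ∈ Subgroup.zpowers a := by
  classical
  haveI : Fintype C := Fintype.ofFinite C
  have hn0 : 0 < n := hn ▸ orderOf_pos a
  have ho : orderOf (⟨a, ha⟩ : C) = n := by rw [← hn, ← Subgroup.orderOf_coe]
  have hsub : (Finset.univ.filter fun y : C => y ∈ Subgroup.zpowers (⟨a, ha⟩ : C)) ⊆
      Finset.univ.filter fun y : C => y ^ n = 1 := fun y hy => by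
    simp only [Finset.mem_filter, Finset.mem_univ, true_and] at hy ⊢
    obtain ⟨k, rfl⟩ := hy
    rw [← zpow_natCast, ← zpow_mul, mul_comm, zpow_mul, zpow_natCast, ← ho, pow_orderOf_eq_one, one_zpow]
  have hcard : (Finset.univ.filter fun y : C => y ∈ Subgroup.zpowers (⟨a, ha⟩ : C)).card = n := by
    rw [← Fintype.card_subtype, ← Nat.card_eq_fintype_card]
    exact (Nat.card_zpowers _).trans ho
  have heq := Finset.eq_of_subset_of_card_le hsub ((IsCyclic.card_pow_eq_one_le hn0).trans hcard.ge)
  have hxm : (⟨x, hx⟩ : C) ∈ Finset.univ.filter fun y : C => y ^ n = 1 := by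
    simp only [Finset.mem_filter, Finset.mem_univ, true_and]
    exact Subtype.ext hxn
  rw [← heq, Finset.mem_filter] at hxm
  obtain ⟨k, hk⟩ := hxm.2
  exact ⟨k, congrArg Subtype.val hk⟩

universe u v

variable {G : Type u} [Group G] [Finite G]

/-- A group that embeds in an almost Sylow-cyclic group is almost Sylow-cyclic. -/
theorem AlmostSylowCyclic.of_injective {H : Type v} [Group H] (hG : AlmostSylowCyclic G) {f : H →* G}
    (hf : Function.Injective f) : AlmostSylowCyclic H := by
  constructor
  · intro p hp hp2 P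
    haveI : Fact p.Prime := ⟨hp⟩
    obtain ⟨Q, hQ⟩ := (P.2.map f).exists_le_sylow
    haveI := hG.1 p hp hp2 Q
    haveI := Subgroup.isCyclic_of_le hQ
    exact isCyclic_of_surjective _ (Subgroup.equivMapOfInjective (P : Subgroup H) f hf).symm.surjective
  · intro S
    obtain ⟨Q, hQ⟩ := (S.2.map f).exists_le_sylow
    obtain ⟨C, hC, hi⟩ := hG.2 Q
    haveI := hC
    haveI hn : C.Normal := by
      rcases (Nat.dvd_prime Nat.prime_two).1 hi with h1 | h1
      · rw [Subgroup.index_eq_one.1 h1]; infer_instance
      · exact Subgroup.normal_of_index_eq_two h1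
    let g : ↥(S : Subgroup H) →* ↥(Q : Subgroup G) :=
      (f.comp (S : Subgroup H).subtype).codRestrict _ fun x => hQ ⟨x, x.2, rfl⟩
    have hg : Function.Injective g := fun x y h => Subtype.ext (hf (congrArg Subtype.val h))
    refine ⟨C.comap g, ?_, ?_⟩
    · refine isCyclic_of_injective (g.subgroupComap C) ?_
      intro x y h
      exact Subtype.ext (hg (congrArg Subtype.val h))
    · rw [Subgroup.index_comap]
      exact (Subgroup.relIndex_dvd_index_of_normal C g.range).trans hi

theorem AlmostSylowCyclic.subgroup (hG : AlmostSylowCyclic G) (H : Subgroup G) : AlmostSylowCyclic H :=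
  hG.of_injective H.subtype_injective

/-- A homomorphic image of an almost Sylow-cyclic group is almost Sylow-cyclic. -/
theorem AlmostSylowCyclic.of_surjective {H : Type v} [Group H] (hG : AlmostSylowCyclic G) {f : G →* H}
    (hf : Function.Surjective f) : AlmostSylowCyclic H := by
  constructor
  · intro p hp hp2 P
    haveI : Fact p.Prime := ⟨hp⟩
    obtain ⟨Q, rfl⟩ := Sylow.mapSurjective_surjective hf p P
    haveI := hG.1 p hp hp2 Q
    exact isCyclic_of_surjective _ (f.subgroupMap_surjective (Q : Subgroup G))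
  · intro S
    obtain ⟨Q, rfl⟩ := Sylow.mapSurjective_surjective hf 2 S
    obtain ⟨C, hC, hi⟩ := hG.2 Q
    haveI := hC
    refine ⟨C.map (f.subgroupMap (Q : Subgroup G)), ?_, ?_⟩
    · exact isCyclic_of_surjective _ ((f.subgroupMap (Q : Subgroup G)).subgroupMap_surjective C)
    · exact (Subgroup.index_map_dvd C (f.subgroupMap_surjective (Q : Subgroup G))).trans hi

theorem AlmostSylowCyclic.quotient (hG : AlmostSylowCyclic G) (N : Subgroup G) [N.Normal] :
    AlmostSylowCyclic (G ⧸ N) :=
  hG.of_surjective (QuotientGroup.mk'_surjective N)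

/-- An odd `p`-subgroup is cyclic. -/
theorem AlmostSylowCyclic.isCyclic_of_isPGroup (hG : AlmostSylowCyclic G) {p : ℕ} (hp : p.Prime)
    (hp2 : p ≠ 2) {K : Subgroup G} (hK : IsPGroup p K) : IsCyclic K := by
  haveI : Fact p.Prime := ⟨hp⟩
  obtain ⟨Q, hQ⟩ := hK.exists_le_sylow
  haveI := hG.1 p hp hp2 Q
  exact Subgroup.isCyclic_of_le hQ

omit [Finite G] in
theorem isPGroup_zpowers_of_pow_eq_one {p : ℕ} [Fact p.Prime] {x : G} {k : ℕ} (hx : x ^ (p ^ k) = 1) :
    IsPGroup p (Subgroup.zpowers x) := by
  rintro ⟨y, i, rfl⟩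
  exact ⟨k, Subtype.ext (by
    show (x ^ i) ^ (p ^ k) = 1
    rw [← zpow_natCast (x ^ i), ← zpow_mul, mul_comm, zpow_mul, zpow_natCast, hx, one_zpow])⟩

/-- Commuting elements of the same odd prime order generate the same subgroup. -/
theorem AlmostSylowCyclic.mem_zpowers_of_commute (hG : AlmostSylowCyclic G) {p : ℕ} (hp : p.Prime)
    (hp2 : p ≠ 2) {x y : G} (hx : orderOf x = p) (hy : y ^ p = 1) (hxy : Commute x y) :
    y ∈ Subgroup.zpowers x := by
  haveI : Fact p.Prime := ⟨hp⟩
  have hP : IsPGroup p ↥(Subgroup.zpowers x ⊔ Subgroup.zpowers y) := by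
    refine IsPGroup.to_sup_of_normal_right' (isPGroup_zpowers_of_pow_eq_one (k := 1) (by
      rw [pow_one, ← hx, pow_orderOf_eq_one])) (isPGroup_zpowers_of_pow_eq_one (k := 1) (by rw [pow_one, hy])) ?_
    refine le_trans ?_ (Subgroup.centralizer_le_normalizer _)
    rw [Subgroup.zpowers_le, Subgroup.mem_centralizer_iff]
    rintro _ ⟨i, rfl⟩
    exact (hxy.symm.zpow_left i).eq
  haveI := hG.isCyclic_of_isPGroup hp hp2 hP
  exact mem_zpowers_of_cyclic hx (Subgroup.mem_sup_left (Subgroup.mem_zpowers x))
    (Subgroup.mem_sup_right (Subgroup.mem_zpowers y)) hy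

/-- An abelian subgroup of prime exponent has prime order or order at most four. -/
theorem AlmostSylowCyclic.card_le_of_exponent (hG : AlmostSylowCyclic G) {r : ℕ} (hr : r.Prime)
    {V : Subgroup G} (hV : ∀ x ∈ V, x ^ r = 1) :
    IsCyclic V ∨ Nat.card V ≤ 4 := by
  classical
  haveI : Fact r.Prime := ⟨hr⟩
  have hVp : IsPGroup r V := fun x => ⟨1, Subtype.ext (by rw [pow_one]; exact hV x x.2)⟩
  rcases eq_or_ne r 2 with rfl | hr2
  · right
    obtain ⟨Q, hQ⟩ := hVp.exists_le_sylow
    obtain ⟨C, hC, hi⟩ := hG.2 Q
    haveI := hC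
    haveI : Fintype C := Fintype.ofFinite C
    let g : V →* ↥(Q : Subgroup G) := Subgroup.inclusion hQ
    have hker : (C.comap g).index ≤ 2 := by
      rw [Subgroup.index_comap]
      refine Nat.le_of_dvd two_pos ?_
      haveI : C.Normal := by
        rcases (Nat.dvd_prime Nat.prime_two).1 hi with h1 | h1
        · rw [Subgroup.index_eq_one.1 h1]; infer_instance
        · exact Subgroup.normal_of_index_eq_two h1
      exact (Subgroup.relIndex_dvd_index_of_normal C g.range).trans hi
    have hsmall : Nat.card (C.comap g) ≤ 2 := by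
      let j : C.comap g → {c : C // c ^ 2 = 1} := fun x => ⟨⟨g x, x.2⟩, Subtype.ext (Subtype.ext (hV _ x.1.2))⟩
      have hj : Function.Injective j := fun x y h => by
        have h1 := congrArg (fun c : {c : C // c ^ 2 = 1} => ((c.1 : ↥(Q : Subgroup G)) : G)) h
        exact Subtype.ext (Subtype.ext h1)
      refine (Nat.card_le_card_of_injective j hj).trans ?_
      rw [Nat.card_eq_fintype_card, Fintype.card_subtype]
      exact IsCyclic.card_pow_eq_one_le two_pos
    calc Nat.card V = Nat.card (C.comap g) * (C.comap g).index := (Subgroup.card_mul_index _).symm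
      _ ≤ 2 * 2 := Nat.mul_le_mul hsmall hker
      _ = 4 := rfl
  · exact Or.inl (hG.isCyclic_of_isPGroup hr hr2 hVp)

omit [Group G] in
/-- A group of order at most four has a solvable automorphism group. -/
theorem isSolvable_mulAut_of_card_le {V : Type v} [Group V] [Finite V] (h : Nat.card V ≤ 4) :
    Group.IsSolvable (MulAut V) := by
  classical
  let X := {x : V // x ≠ 1}
  let ρ : MulAut V →* Equiv.Perm X :=
    { toFun := fun f => f.toEquiv.subtypeEquiv fun a => by simp
      map_one' := by ext x; rfl
      map_mul' := fun f f' => by ext x; rfl }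
  have hρ : Function.Injective ρ := fun f f' hff => by
    ext x
    by_cases hx : x = 1
    · simp [hx]
    · exact congrArg Subtype.val (Equiv.congr_fun hff ⟨x, hx⟩)
  haveI : Fintype V := Fintype.ofFinite V
  have hX : Fintype.card X ≤ 3 := by
    rw [Fintype.card_subtype_compl, Fintype.card_subtype_eq]
    rw [Nat.card_eq_fintype_card] at h
    omega
  haveI : IsZGroup (Equiv.Perm X) := by
    refine IsZGroup.of_squarefree ?_
    rw [Nat.card_eq_fintype_card, Fintype.card_perm]
    interval_cases (Fintype.card X)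
    · exact squarefree_one
    · exact squarefree_one
    · exact Nat.prime_two.squarefree
    · show Squarefree (3 * 2)
      exact (Nat.squarefree_mul (by norm_num)).2 ⟨Nat.prime_three.squarefree, Nat.prime_two.squarefree⟩
  exact Group.isSolvable_of_isSolvable_injective hρ

/-- An abelian subgroup of prime exponent of an almost Sylow-cyclic group has a solvable automorphism
group. -/
theorem AlmostSylowCyclic.isSolvable_mulAut (hG : AlmostSylowCyclic G) {r : ℕ} (hr : r.Prime)
    {V : Subgroup G} (hV : ∀ x ∈ V, x ^ r = 1) : Group.IsSolvable (MulAut V) := by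
  rcases hG.card_le_of_exponent hr hV with h | h
  · haveI := h
    exact Group.isSolvable_of_isSolvable_injective (f := (IsCyclic.mulAutMulEquiv V).toMonoidHom)
      (MulEquiv.injective _)
  · exact isSolvable_mulAut_of_card_le h

end CfsgLib.Jordan.AlmostCyclic
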