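import Cfsg.Prelude

/-!
# Almost Sylow-cyclic groups: the notions used in the proof of their structure theorem
-/

set_option autoImplicit false

namespace CfsgLib.Jordan.AlmostCyclic

universe u

/-- Odd Sylow subgroups are cyclic and Sylow `2`-subgroups have a cyclic subgroup of index at most `2`. -/
def AlmostSylowCyclic (G : Type u) [Group G] : Prop :=
  (∀ p : ℕ, p.Prime → p ≠ 2 → ∀ P : Sylow p G, IsCyclic P) ∧
    ∀ S : Sylow 2 G, ∃ C : Subgroup ↥(S : Subgroup G), IsCyclic C ∧ C.index ∣ 2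

/-- The group is `PSL₂(p)` for a prime `p ≥ 5`. -/
def IsPSLPrime (T : Type u) [Group T] : Prop :=
  ∃ (p : ℕ) (_ : Fact p.Prime), 5 ≤ p ∧
    Nonempty (T ≃* Matrix.ProjectiveSpecialLinearGroup (Fin 2) (ZMod p))

/-- Every nonabelian almost Sylow-cyclic simple group of order at most `n` is some `PSL₂(p)`. -/
def SimpleHyp (n : ℕ) : Prop :=
  ∀ (T : Type u) [Group T] [Finite T] [IsSimpleGroup T], Nat.card T ≤ n → ¬ IsMulCommutative T →
    AlmostSylowCyclic T → IsPSLPrime T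

/-- The conclusion of the structure theorem. -/
def HasStructure (G : Type u) [Group G] : Prop :=
  ∃ G₀ : Subgroup G, G₀.Normal ∧ G₀.index ∣ 2 ∧
    ∃ X L : Subgroup ↥G₀, X.Normal ∧ L.Normal ∧ X ⊓ L = ⊥ ∧ X ⊔ L = ⊤ ∧ (Nat.card X).Coprime (Nat.card L) ∧
      Odd (Nat.card X) ∧ (∃ (C : Subgroup ↥X) (_ : C.Normal), IsCyclic C ∧ IsCyclic (↥X ⧸ C)) ∧
      ∃ (p : ℕ) (_ : Fact p.Prime), 5 ≤ p ∧
        (Nonempty (↥L ≃* Matrix.ProjectiveSpecialLinearGroup (Fin 2) (ZMod p)) ∨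
         Nonempty (↥L ≃* Matrix.SpecialLinearGroup (Fin 2) (ZMod p)))

end CfsgLib.Jordan.AlmostCyclic
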