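import Cfsg.Agent.Lib.Jordan.AlmostCyclic.Defs
import Cfsg.Agent.Lib.TwoGroups.CyclicMax
import Cfsg.Agent.Lib.Involutions.BrauerSuzuki
import Cfsg.Agent.Lib.ClassicalLinear.BlockHom
import Cfsg.Agent.S0483

/-!
# Simple almost Sylow-cyclic groups

A nonabelian simple group with cyclic Sylow subgroups of odd order and Sylow 2-subgroups having a cyclic
subgroup of index at most two is `PSL₂(p)` or has quasi-dihedral Sylow 2-subgroups.
-/

set_option autoImplicit false

namespace CfsgLib.Jordan.AlmostCyclic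

open scoped Matrix

universe u

section Transfer

variable {T : Type u} [Group T] [Finite T]

/-- A simple group has no Sylow 2-subgroup with an element of maximal order `2 ^ n` such that the
elements killed by `2 ^ (n - 1)` form a subgroup of index two. -/
theorem not_simple_of_extremal [IsSimpleGroup T] (hT : ¬ IsMulCommutative T) (S : Sylow 2 T)
    (x : (S : Subgroup T)) {n : ℕ} (hn : 1 ≤ n) (hx : orderOf x = 2 ^ n)
    (M : Subgroup (S : Subgroup T)) (hM : M.index = 2)
    (hMmem : ∀ g : (S : Subgroup T), g ∈ M ↔ g ^ 2 ^ (n - 1) = 1) : False := by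
  classical
  have := Fact.mk Nat.prime_two
  let χ : (S : Subgroup T) →* ℤˣ :=
    MonoidHom.mk' (fun g => if g ∈ M then 1 else -1) fun a b => by
      have h := Subgroup.mul_mem_iff_of_index_two hM (a := a) (b := b)
      by_cases ha : a ∈ M <;> by_cases hb : b ∈ M <;> simp_all
  have hχ : ∀ g, χ g = if g ∈ M then 1 else -1 := fun g => rfl
  let V := MonoidHom.transfer χ
  set g : T := (x : T) with hg
  have hgo : orderOf g = 2 ^ n := by rw [hg, Subgroup.orderOf_coe, hx]
  have hsp : 2 ^ n = 2 * 2 ^ (n - 1) := by rw [← pow_succ', Nat.sub_add_cancel hn]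
  -- the periods of `x` on the cosets
  let k : Quotient (MulAction.orbitRel (Subgroup.zpowers g) (T ⧸ (S : Subgroup T))) → ℕ :=
    fun q => Function.minimalPeriod (g • ·) q.out
  let _ := Fintype.ofFinite (Quotient (MulAction.orbitRel (Subgroup.zpowers g) (T ⧸ (S : Subgroup T))))
  have hk : ∀ q, k q ∣ 2 ^ n := fun q => by
    have h1 : Function.IsPeriodicPt (g • ·) (2 ^ n) q.out := by
      show (g • ·)^[2 ^ n] q.out = q.out
      rw [smul_iterate, ← hgo, pow_orderOf_eq_one]
      exact one_smul _ _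
    exact h1.minimalPeriod_dvd
  have hterm : ∀ q, χ ⟨q.out.out⁻¹ * g ^ k q * q.out.out,
      QuotientGroup.out_conj_pow_minimalPeriod_mem (S : Subgroup T) g q.out⟩ =
        if k q = 1 then -1 else 1 := by
    intro q
    obtain ⟨j, -, hj⟩ := (Nat.dvd_prime_pow Nat.prime_two).1 (hk q)
    have e : (q.out.out⁻¹ * g ^ k q * q.out.out) ^ 2 ^ (n - 1) =
        q.out.out⁻¹ * g ^ (k q * 2 ^ (n - 1)) * q.out.out := by
      rw [pow_mul]
      simpa using conj_pow (i := 2 ^ (n - 1)) (a := q.out.out⁻¹) (b := g ^ k q)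
    have key : (⟨q.out.out⁻¹ * g ^ k q * q.out.out,
        QuotientGroup.out_conj_pow_minimalPeriod_mem (S : Subgroup T) g q.out⟩ : (S : Subgroup T)) ∈ M
          ↔ j ≠ 0 := by
      rw [hMmem, Subtype.ext_iff, SubmonoidClass.coe_pow, Subgroup.coe_one, e,
        mul_assoc, inv_mul_eq_one, right_eq_mul, ← orderOf_dvd_iff_pow_eq_one, hgo, hj, ← pow_add,
        Nat.pow_dvd_pow_iff_le_right (by norm_num)]
      omega
    rw [hχ]
    by_cases hj0 : j = 0
    · rw [if_neg (fun h => key.1 h hj0), if_pos (by rw [hj, hj0, pow_zero])]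
    · rw [if_pos (key.2 hj0), if_neg (fun h => hj0 (by rwa [hj, Nat.pow_eq_one, or_iff_right (by norm_num)] at h))]
  have hsum : ∑ q, k q = (S : Subgroup T).index := by
    rw [Subgroup.index, Nat.card_congr (Subgroup.quotientEquivSigmaZMod (S : Subgroup T) g),
      Nat.card_sigma]
    simp [k]
  have hV : V g = (-1) ^ (Finset.univ.filter fun q => k q = 1).card := by
    rw [MonoidHom.transfer_eq_prod_quotient_orbitRel_zpowers_quot]
    refine (Finset.prod_congr rfl fun q _ => hterm q).trans ?_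
    rw [Finset.prod_ite, Finset.prod_const, Finset.prod_const_one, mul_one]
  have hodd : Odd (Finset.univ.filter fun q => k q = 1).card := by
    have h1 : Odd (∑ q, k q) := by
      rw [hsum, Nat.odd_iff]
      have := S.not_dvd_index
      omega
    rw [← Finset.sum_filter_add_sum_filter_not Finset.univ (fun q => k q = 1),
      Finset.sum_congr rfl (fun q hq => (Finset.mem_filter.1 hq).2), Finset.sum_const,
      smul_eq_mul, mul_one, Nat.odd_add] at h1
    refine h1.2 (Finset.even_sum _ fun q hq => ?_)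
    obtain ⟨j, -, hj⟩ := (Nat.dvd_prime_pow Nat.prime_two).1 (hk q)
    have hne := (Finset.mem_filter.1 hq).2
    rw [hj] at hne ⊢
    rw [Nat.even_pow]
    exact ⟨by decide, fun h0 => hne (by rw [h0, pow_zero])⟩
  have hV1 : V g = -1 := by rw [hV, hodd.neg_one_pow]
  rcases (MonoidHom.normal_ker V).eq_bot_or_eq_top with h | h
  · refine hT (isMulCommutative_iff.2 fun a b => ?_)
    apply (MonoidHom.ker_eq_bot_iff V).1 h
    rw [map_mul, map_mul, mul_comm]
  · have : g ∈ V.ker := h ▸ Subgroup.mem_top _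
    rw [MonoidHom.mem_ker, hV1] at this
    exact absurd this (by decide)

end Transfer

section TwoGroup

variable {S : Type u} [Group S] [Finite S]

/-- In a cyclic 2-group the elements which are not generators form a subgroup of index two. -/
theorem exists_extremal_of_cyclic [IsCyclic S] {m : ℕ} (hm : 1 ≤ m) (hc : Nat.card S = 2 ^ m) :
    ∃ (x : S) (M : Subgroup S), orderOf x = 2 ^ m ∧ M.index = 2 ∧
      ∀ g : S, g ∈ M ↔ g ^ 2 ^ (m - 1) = 1 := by
  obtain ⟨x, hx⟩ := IsCyclic.exists_generator (α := S)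
  have hxo : orderOf x = 2 ^ m := by rw [orderOf_eq_card_of_forall_mem_zpowers hx, hc]
  let _ : CommGroup S := IsCyclic.commGroup
  refine ⟨x, (powMonoidHom (2 ^ (m - 1))).ker, hxo, ?_, fun g => Iff.rfl⟩
  have hcard : Nat.card (powMonoidHom (α := S) (2 ^ (m - 1))).range = 2 := by
    have e : (powMonoidHom (α := S) (2 ^ (m - 1))).range = Subgroup.zpowers (x ^ 2 ^ (m - 1)) := by
      rw [MonoidHom.range_eq_map, ← (Subgroup.eq_top_iff' _).2 hx, MonoidHom.map_zpowers]
      rfl
    rw [e, Nat.card_zpowers, orderOf_pow' _ (by positivity), hxo,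
      Nat.gcd_eq_right (pow_dvd_pow 2 (by omega)), Nat.pow_div (by omega) (by norm_num),
      show m - (m - 1) = 1 by omega, pow_one]
  rw [Subgroup.index_ker, hcard]

/-- An abelian, noncyclic 2-group with a cyclic subgroup of index two and exponent at least four. -/
theorem exists_extremal_of_comm (hS : IsMulCommutative S) (hnc : ¬ IsCyclic S) {n : ℕ} (hn : 2 ≤ n)
    {x : S} (hx : orderOf x = 2 ^ n) (hc : Nat.card S = 2 ^ (n + 1)) :
    ∃ M : Subgroup S, M.index = 2 ∧ ∀ g : S, g ∈ M ↔ g ^ 2 ^ (n - 1) = 1 := by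
  let _ : CommGroup S := { ‹Group S› with mul_comm := fun a b => isMulCommutative_iff.1 hS a b }
  refine ⟨(powMonoidHom (2 ^ (n - 1))).ker, ?_, fun g => Iff.rfl⟩
  set z := x ^ 2 ^ (n - 1) with hz
  have hc2 : Nat.card S = 2 * orderOf x := by rw [hc, hx, pow_succ, mul_comm]
  have e : (powMonoidHom (α := S) (2 ^ (n - 1))).range = Subgroup.zpowers z := by
    refine le_antisymm ?_ ?_
    · rintro _ ⟨g, rfl⟩
      obtain ⟨a, ha⟩ := Subgroup.mem_zpowers_iff.1 (TwoGroups.sq_notMem_or_mem hc2 g)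
      show g ^ 2 ^ (n - 1) ∈ _
      rcases Int.even_or_odd a with ⟨c, rfl⟩ | ho
      · refine Subgroup.mem_zpowers_iff.2 ⟨c, ?_⟩
        calc z ^ c = x ^ (((2 ^ (n - 1) : ℕ) : ℤ) * c) := by rw [hz, zpow_mul, zpow_natCast]
          _ = x ^ ((c + c) * ((2 ^ (n - 2) : ℕ) : ℤ)) := by
              congr 1
              rw [show n - 1 = n - 2 + 1 by omega]; push_cast; ring
          _ = (g ^ 2) ^ (2 ^ (n - 2)) := by rw [zpow_mul, zpow_natCast, ha]
          _ = g ^ 2 ^ (n - 1) := by rw [← pow_mul, ← pow_succ', show n - 2 + 1 = n - 1 by omega]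
      · exfalso
        refine hnc (isCyclic_of_orderOf_eq_card g ?_)
        obtain ⟨j, -, hj'⟩ := (Nat.dvd_prime_pow Nat.prime_two).1 (hc ▸ orderOf_dvd_natCard g)
        have h2 : orderOf (g ^ 2) = 2 ^ n := by
          rw [← ha]
          have hco : (x ^ a) ^ 2 ^ (n - 1) ≠ 1 := by
            rw [← zpow_natCast, ← zpow_mul, ne_eq, ← orderOf_dvd_iff_zpow_eq_one, hx]
            push_cast
            rw [show (2 : ℤ) ^ n = 2 ^ (n - 1) * 2 by rw [← pow_succ]; congr 1; omega, mul_comm a,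
              mul_dvd_mul_iff_left (by positivity), ← even_iff_two_dvd, Int.not_even_iff_odd]
            exact ho
          have hn' : n - 1 + 1 = n := by omega
          rw [← hn']
          refine orderOf_eq_prime_pow hco ?_
          rw [hn', ← zpow_natCast, ← zpow_mul, mul_comm, zpow_mul, zpow_natCast, ← hx,
            pow_orderOf_eq_one, one_zpow]
        rw [orderOf_pow' _ two_ne_zero, hj'] at h2
        rcases Nat.eq_zero_or_pos j with rfl | hjp
        · simp at h2
          exact absurd h2.symm (Nat.one_lt_pow (by omega) (by norm_num)).ne'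
        rw [Nat.gcd_eq_right (dvd_pow_self 2 hjp.ne'),
          show 2 ^ j / 2 = 2 ^ (j - 1) by rw [← Nat.pow_div hjp (by norm_num), pow_one]] at h2
        have := Nat.pow_right_injective le_rfl h2
        rw [hj', hc]; congr 1; omega
    · exact Subgroup.zpowers_le.2 ⟨x, rfl⟩
  rw [Subgroup.index_ker, e, Nat.card_zpowers, hz, orderOf_pow' _ (by positivity), hx,
    Nat.gcd_eq_right (pow_dvd_pow 2 (by omega)), Nat.pow_div (by omega) (by norm_num),
    show n - (n - 1) = 1 by omega, pow_one]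

/-- The modular 2-group. -/
theorem exists_extremal_of_modular {n : ℕ} (hn : 3 ≤ n) {x y : S} (hx : orderOf x = 2 ^ n)
    (hc : Nat.card S = 2 ^ (n + 1)) (hy : y ∉ Subgroup.zpowers x) (hy2 : y ^ 2 = 1)
    (hxy : y * x * y⁻¹ = x ^ (1 + 2 ^ (n - 1) : ℤ)) :
    ∃ M : Subgroup S, M.index = 2 ∧ ∀ g : S, g ∈ M ↔ g ^ 2 ^ (n - 1) = 1 := by
  classical
  obtain ⟨m, rfl⟩ : ∃ m, n = m + 3 := ⟨n - 3, by omega⟩
  rw [show m + 3 - 1 = m + 2 by omega] at *
  have hc2 : Nat.card S = 2 * orderOf x := by rw [hc, hx, pow_succ, mul_comm]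
  have h1 : ∀ a : ℤ, x ^ a = 1 ↔ (2 : ℤ) ^ (m + 3) ∣ a := fun a => by
    rw [← orderOf_dvd_iff_zpow_eq_one, hx]; push_cast; rfl
  -- `y` commutes with the even powers of `x`
  have hcomm : ∀ c : ℤ, Commute y (x ^ (2 * c)) := fun c => by
    rw [commute_iff_eq, ← mul_inv_eq_iff_eq_mul, ← conj_zpow, hxy, ← zpow_mul, ← div_eq_one,
      div_eq_mul_inv, ← zpow_sub, h1]
    exact ⟨c, by rw [pow_succ (2 : ℤ) (m + 2)]; ring⟩
  have hpow : ∀ a : ℤ, (x ^ a) ^ 2 ^ (m + 2) = 1 ↔ Even a := fun a => by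
    rw [← zpow_natCast, ← zpow_mul, h1, pow_succ _ (m + 2), mul_comm a]
    push_cast
    rw [mul_dvd_mul_iff_left (by positivity), even_iff_two_dvd]
  have hpowy : ∀ a : ℤ, (x ^ a * y) ^ 2 ^ (m + 2) = 1 ↔ Even a := fun a => by
    have hsq : (x ^ a * y) ^ 2 = x ^ (a * (2 + 2 ^ (m + 2))) := by
      have hyi : y⁻¹ = y := by rw [inv_eq_iff_mul_eq_one, ← pow_two, hy2]
      rw [pow_two, show x ^ a * y * (x ^ a * y) = x ^ a * (y * x ^ a * y⁻¹) by
        rw [hyi]; group, ← conj_zpow, hxy, ← zpow_mul, ← zpow_add]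
      congr 1; ring
    rw [show 2 ^ (m + 2) = 2 * 2 ^ (m + 1) by ring, pow_mul, hsq, ← zpow_natCast, ← zpow_mul, h1]
    push_cast
    rw [show a * (2 + 2 ^ (m + 2)) * 2 ^ (m + 1) = 2 ^ (m + 2) * (a * (1 + 2 ^ (m + 1))) by ring,
      pow_succ _ (m + 2), mul_dvd_mul_iff_left (by positivity), even_iff_two_dvd]
    refine ⟨fun h => ?_, fun h => h.mul_right _⟩
    exact IsCoprime.dvd_of_dvd_mul_right ⟨-2 ^ m, 1, by ring⟩ h
  let M : Subgroup S := Subgroup.zpowers (x ^ (2 : ℤ)) ⊔ Subgroup.zpowers y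
  have hMx : ∀ c : ℤ, x ^ (2 * c) ∈ M := fun c =>
    Subgroup.mem_sup_left (Subgroup.mem_zpowers_iff.2 ⟨c, (zpow_mul x 2 c).symm⟩)
  have hnorm : (Subgroup.zpowers (x ^ (2 : ℤ))).Normal := ⟨by
    intro g hg h
    obtain ⟨c, rfl⟩ := Subgroup.mem_zpowers_iff.1 hg
    rw [← zpow_mul]
    rcases TwoGroups.exists_eq_zpow_or_zpow_mul hc2 hy h with ⟨a, rfl⟩ | ⟨a, rfl⟩
    · rw [← zpow_add, ← zpow_neg, ← zpow_add]
      exact Subgroup.mem_zpowers_iff.2 ⟨c, by rw [← zpow_mul]; congr 1; ring⟩
    · rw [show x ^ a * y * x ^ (2 * c) * (x ^ a * y)⁻¹ = x ^ a * (y * x ^ (2 * c) * y⁻¹) * x ^ (-a) by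
        group, (hcomm c).eq, mul_inv_cancel_right, ← zpow_add, ← zpow_add]
      exact Subgroup.mem_zpowers_iff.2 ⟨c, by rw [← zpow_mul]; congr 1; ring⟩⟩
  have hMle : ∀ g ∈ M, g ^ 2 ^ (m + 2) = 1 := by
    intro g hg
    obtain ⟨u, hu, v, hv, rfl⟩ := Subgroup.mem_sup_of_normal_left.1 hg
    obtain ⟨c, rfl⟩ := Subgroup.mem_zpowers_iff.1 hu
    obtain ⟨b, rfl⟩ := Subgroup.mem_zpowers_iff.1 hv
    rw [← zpow_mul, ((hcomm c).symm.zpow_right b).mul_pow, (hpow _).2 (even_two_mul c), one_mul]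
    rw [← zpow_natCast, ← zpow_mul, mul_comm, zpow_mul, zpow_natCast,
      pow_succ' 2 (m + 1), pow_mul, hy2, one_pow, one_zpow]
  have hall : ∀ g : S, g ∈ M ↔ g ^ 2 ^ (m + 2) = 1 := fun g => by
    refine ⟨hMle g, fun h => ?_⟩
    rcases TwoGroups.exists_eq_zpow_or_zpow_mul hc2 hy g with ⟨a, rfl⟩ | ⟨a, rfl⟩
    · obtain ⟨c, rfl⟩ := even_iff_two_dvd.1 ((hpow a).1 h)
      exact hMx c
    · obtain ⟨c, rfl⟩ := even_iff_two_dvd.1 ((hpowy a).1 h)
      exact M.mul_mem (hMx c) (Subgroup.mem_sup_right (Subgroup.mem_zpowers y))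
  refine ⟨M, Subgroup.index_eq_two_iff.2 ⟨x, fun g => ?_⟩, hall⟩
  have hxx : ∀ a : ℤ, x ^ a * x = x ^ (a + 1) := fun a => by rw [zpow_add, zpow_one]
  rcases TwoGroups.exists_eq_zpow_or_zpow_mul hc2 hy g with ⟨a, rfl⟩ | ⟨a, rfl⟩
  · simp only [Xor', hall, hxx, hpow, Int.even_add_one]
    tauto
  · have e : x ^ a * y * x = x ^ (a + (1 + 2 ^ (m + 2))) * y := by
      rw [zpow_add, ← hxy]; group
    simp only [Xor', hall, e, hpowy, Int.even_add, Int.even_pow' (Nat.succ_ne_zero _)]
    have h2 : Even (2 : ℤ) := even_two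
    have h1' : ¬ Even (1 : ℤ) := Int.not_even_one
    tauto

end TwoGroup

/-- Subgroups of prime exponent are of order at most that prime when the Sylow subgroups are cyclic. -/
theorem card_le_prime_of_exponent {G : Type u} [Group G] [Finite G] {p : ℕ} [hp : Fact p.Prime]
    (hc : ∀ P : Sylow p G, IsCyclic P) (K : Subgroup G) (hK : IsPGroup p K)
    (hKp : ∀ g ∈ K, g ^ p = 1) : Nat.card K ≤ p := by
  obtain ⟨P, hP⟩ := hK.exists_le_sylow
  have := hc P
  have : IsCyclic K :=
    isCyclic_of_injective (Subgroup.inclusion hP) (Subgroup.inclusion_injective hP)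
  obtain ⟨g, hg⟩ := IsCyclic.exists_generator (α := K)
  rw [← orderOf_eq_card_of_forall_mem_zpowers hg, ← Subgroup.orderOf_coe]
  exact Nat.le_of_dvd hp.out.pos (orderOf_dvd_of_pow_eq_one (hKp _ g.2))

open Equiv in
/-- Two commuting elements of order three in the alternating group of degree seven. -/
theorem exists_commuting_three_alt_seven :
    ∃ a b : alternatingGroup (Fin 7), Commute a b ∧ a ^ 3 = 1 ∧ b ^ 3 = 1 ∧
      ({1, a, b, a * b} : Finset (alternatingGroup (Fin 7))).card = 4 :=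
  ⟨⟨c[0, 1, 2], Equiv.Perm.mem_alternatingGroup.2 (by decide)⟩,
    ⟨c[3, 4, 5], Equiv.Perm.mem_alternatingGroup.2 (by decide)⟩, by unfold Commute SemiconjBy; decide,
    by decide, by decide, by decide⟩

/-- Cyclic odd Sylow subgroups force a prime field. -/
theorem isPSLPrime_of_field {T : Type u} [Group T] [Finite T]
    (hodd : ∀ p : ℕ, p.Prime → p ≠ 2 → ∀ P : Sylow p T, IsCyclic P)
    {F : Type} [Field F] [Fintype F] (ho : Odd (Fintype.card F)) (h3 : 3 < Fintype.card F)
    (e : T ≃* Matrix.ProjectiveSpecialLinearGroup (Fin 2) F) : IsPSLPrime T := by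
  classical
  obtain ⟨p, hchar⟩ := CharP.exists F
  obtain ⟨f, hp, hf⟩ := FiniteField.card F p
  have := Fact.mk hp
  have hp2 : p ≠ 2 := fun h => by
    rw [hf, h] at ho
    exact (Nat.not_odd_iff_even.2 (even_two.pow_of_ne_zero f.ne_zero)) ho
  let u : Multiplicative F →* Matrix.SpecialLinearGroup (Fin 2) F :=
    MonoidHom.mk' (fun a => ⟨!![1, a.toAdd; 0, 1], by simp [Matrix.det_fin_two]⟩) fun a b =>
      Subtype.ext (by
      show _ = !![1, a.toAdd; 0, 1] * !![1, b.toAdd; 0, 1]
      simp [add_comm])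
  let φ : Multiplicative F →* T :=
    (e.symm.toMonoidHom.comp (QuotientGroup.mk' _)).comp u
  have hφ : Function.Injective φ := by
    rw [injective_iff_map_eq_one]
    intro a ha
    have h1 : (QuotientGroup.mk (u a) : Matrix.ProjectiveSpecialLinearGroup (Fin 2) F) = 1 :=
      e.symm.map_eq_one_iff.1 ha
    obtain ⟨r, -, hr⟩ := Matrix.SpecialLinearGroup.mem_center_iff.1
      ((QuotientGroup.eq_one_iff (u a)).1 h1)
    have := congrFun (congrFun hr 0) 1
    have h01 : (u a : Matrix (Fin 2) (Fin 2) F) 0 1 = a.toAdd := rfl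
    rw [h01] at this
    exact Multiplicative.toAdd.injective (by simpa using this.symm)
  have hle : Nat.card φ.range ≤ p := by
    refine card_le_prime_of_exponent (hodd p hp hp2) _ ?_ ?_
    · refine IsPGroup.of_card (n := f) ?_
      rw [← Nat.card_congr (MonoidHom.ofInjective hφ).toEquiv, Nat.card_eq_fintype_card,
        Fintype.card_multiplicative, hf]
    · rintro _ ⟨a, rfl⟩
      rw [← map_pow, show a ^ p = 1 from Multiplicative.toAdd.injective (by
        simp), map_one]
  rw [← Nat.card_congr (MonoidHom.ofInjective hφ).toEquiv, Nat.card_eq_fintype_card,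
    Fintype.card_multiplicative, hf] at hle
  have hf1 : Fintype.card F = p := by
    rw [hf]
    exact le_antisymm hle (Nat.le_self_pow f.ne_zero p)
  refine ⟨p, ⟨hp⟩, ?_, ⟨e.trans (CfsgLib.ClassicalLinear.pslCongr
    (ZMod.ringEquiv F (by rw [hf1])).symm)⟩⟩
  rw [hf1] at h3
  rcases hp.eq_two_or_odd' with h | h
  · exact absurd h hp2
  · obtain ⟨c, rfl⟩ := h
    omega

/-- A simple almost Sylow-cyclic group is some `PSL₂(p)` or has quasi-dihedral Sylow 2-subgroups. -/
theorem simple_cases {T : Type u} [Group T] [Finite T] [IsSimpleGroup T]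
    (hT : ¬ IsMulCommutative T) (hac : AlmostSylowCyclic T) :
    IsPSLPrime T ∨ ∀ S : Sylow 2 T, Cfsg.IsQuasiDihedral (S : Subgroup T) := by
  classical
  have := Fact.mk Nat.prime_two
  refine or_iff_not_imp_left.2 fun hnp S => ?_
  obtain ⟨hodd, h2⟩ := hac
  obtain ⟨C, hC, hCi⟩ := h2 S
  -- the order is even
  have heven : 2 ∣ Nat.card T := by
    by_contra h
    have hsol : Group.IsSolvable T := by
      have : IsZGroup T := ⟨fun p hp P => by
        by_cases hp2 : p = 2
        · subst hp2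
          have hb : Nat.card P = 1 := by
            rw [P.card_eq_multiplicity, Nat.factorization_eq_zero_of_not_dvd h, pow_zero]
          have := (Nat.card_eq_one_iff_unique.1 hb).1
          infer_instance
        · exact hodd p hp hp2 P⟩
      infer_instance
    exact hT (isMulCommutative_iff.2 (IsSimpleGroup.comm_iff_isSolvable.2 hsol))
  obtain ⟨m, hm⟩ := IsPGroup.iff_card.1 S.isPGroup'
  have hm1 : 1 ≤ m := by
    by_contra h
    rw [S.card_eq_multiplicity] at hm
    have := Nat.pow_right_injective le_rfl hm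
    have := Nat.Prime.factorization_pos_of_dvd Nat.prime_two Nat.card_pos.ne' heven
    omega
  by_cases hcyc : IsCyclic (S : Subgroup T)
  · obtain ⟨x, M, hx, hM, hmem⟩ := exists_extremal_of_cyclic (S := (S : Subgroup T)) hm1 hm
    exact (not_simple_of_extremal hT S x hm1 hx M hM hmem).elim
  obtain ⟨c, hc⟩ := IsCyclic.exists_generator (α := C)
  have hi2 : C.index = 2 := by
    rcases (Nat.dvd_prime Nat.prime_two).1 hCi with h | h
    · refine absurd ?_ hcyc
      rw [Subgroup.index_eq_one] at h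
      subst h
      exact isCyclic_of_surjective _ Subgroup.topEquiv.surjective
    · exact h
  obtain ⟨n, rfl⟩ : ∃ n, m = n + 1 := ⟨m - 1, by omega⟩
  have hx : orderOf (c : (S : Subgroup T)) = 2 ^ n := by
    rw [Subgroup.orderOf_coe, orderOf_eq_card_of_forall_mem_zpowers hc]
    have := C.card_mul_index
    rw [hi2, hm, pow_succ] at this
    omega
  have hn : 1 ≤ n := by
    by_contra h
    refine hcyc (isCyclic_of_prime_card (p := 2) ?_)
    rw [hm, show n = 0 by omega, zero_add, pow_one]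
  -- the perfect group with trivial core
  have hperf : Group.IsPerfect T := ⟨by
    rcases (Subgroup.Normal.eq_bot_or_eq_top (H := commutator T) inferInstance) with h | h
    · exact absurd (isMulCommutative_iff.2 fun a b => (Subgroup.commutator_eq_bot_iff_le_centralizer.1
        (show ⁅(⊤ : Subgroup T), ⊤⁆ = ⊥ from h) (Subgroup.mem_top b) a (Subgroup.mem_top a))) hT
    · exact h⟩
  have hcore : ∀ N : Subgroup T, N.Normal → Odd (Nat.card N) → N = ⊥ := fun N hN hNo => by
    refine hN.eq_bot_or_eq_top.resolve_right fun h => ?_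
    rw [h, Subgroup.card_top] at hNo
    exact Nat.not_odd_iff_even.2 (even_iff_two_dvd.2 heven) hNo
  have hdih : ∀ k : ℕ, 2 ≤ k → Nonempty ((S : Subgroup T) ≃* DihedralGroup k) → False := by
    intro k hk hS
    let q : (T ⧸ Cfsg.oddCore T) ≃* T :=
      (QuotientGroup.quotientMulEquivOfEq (CfsgLib.Cores.oddCore_eq_bot_iff.2 hcore)).trans
        QuotientGroup.quotientBot
    rcases Cfsg.Agent.S0483.result S k hk hS with ⟨F, _, _, ho, h3, ⟨e⟩⟩ | ⟨⟨e⟩⟩
    · exact hnp (isPSLPrime_of_field hodd ho h3 (q.symm.trans e))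
    · -- the alternating group has noncyclic Sylow 3-subgroups
      have := Fact.mk Nat.prime_three
      obtain ⟨a, b, hab, ha3, hb3, hc4⟩ := exists_commuting_three_alt_seven
      let E := (q.symm.trans e).symm
      let ψ : Subgroup.zpowers a × Subgroup.zpowers b →* T :=
        E.toMonoidHom.comp (MonoidHom.noncommCoprod (Subgroup.zpowers a).subtype
          (Subgroup.zpowers b).subtype fun ⟨g, hg⟩ ⟨h, hh⟩ => by
            obtain ⟨i, rfl⟩ := Subgroup.mem_zpowers_iff.1 hg
            obtain ⟨j, rfl⟩ := Subgroup.mem_zpowers_iff.1 hh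
            exact hab.zpow_zpow i j)
      have hpow : ∀ g : Subgroup.zpowers a × Subgroup.zpowers b, g ^ 3 = 1 := by
        rintro ⟨⟨g, hg⟩, ⟨h, hh⟩⟩
        obtain ⟨i, rfl⟩ := Subgroup.mem_zpowers_iff.1 hg
        obtain ⟨j, rfl⟩ := Subgroup.mem_zpowers_iff.1 hh
        refine Prod.ext (Subtype.ext ?_) (Subtype.ext ?_)
        · simp only [Prod.pow_fst, SubmonoidClass.coe_pow, Prod.fst_one, Subgroup.coe_one]
          rw [← zpow_natCast, ← zpow_mul, mul_comm, zpow_mul, zpow_natCast, ha3, one_zpow]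
        · simp only [Prod.pow_snd, SubmonoidClass.coe_pow, Prod.snd_one, Subgroup.coe_one]
          rw [← zpow_natCast, ← zpow_mul, mul_comm, zpow_mul, zpow_natCast, hb3, one_zpow]
      have hle : Nat.card ψ.range ≤ 3 := by
        refine card_le_prime_of_exponent (hodd 3 Nat.prime_three (by norm_num)) _ ?_ ?_
        · rintro ⟨_, g, rfl⟩
          exact ⟨1, Subtype.ext (by simp [← map_pow, hpow])⟩
        · rintro _ ⟨g, rfl⟩
          rw [← map_pow, hpow, map_one]
      have hmem : ∀ g ∈ ({1, a, b, a * b} : Finset (alternatingGroup (Fin 7))), E g ∈ ψ.range := by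
        intro g hg
        simp only [Finset.mem_insert, Finset.mem_singleton] at hg
        rcases hg with h | h | h | h <;> rw [h]
        · rw [map_one]; exact one_mem _
        · exact ⟨(⟨a, Subgroup.mem_zpowers a⟩, 1), by simp [ψ]⟩
        · exact ⟨(1, ⟨b, Subgroup.mem_zpowers b⟩), by simp [ψ]⟩
        · exact ⟨(⟨a, Subgroup.mem_zpowers a⟩, ⟨b, Subgroup.mem_zpowers b⟩), by simp [ψ]⟩
      have h4 : 4 ≤ Nat.card ψ.range := by
        rw [← hc4, ← Nat.card_eq_finsetCard]
        exact Nat.card_le_card_of_injective (fun g => ⟨E g.1, hmem g.1 g.2⟩)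
          fun g h e => Subtype.ext (E.injective (congrArg Subtype.val e))
      omega
  rcases TwoGroups.cyclicMax_classification hx hm with hcom | hd | ⟨hn2, ⟨e⟩⟩ | hqd | ⟨hn3, y, hy, hy2, hxy⟩
  · rcases Nat.lt_or_ge n 2 with hlt | hge
    · obtain rfl : n = 1 := by omega
      have : Nontrivial (S : Subgroup T) := Finite.one_lt_card_iff_nontrivial.1 (by rw [hm]; norm_num)
      have hexp : Monoid.exponent (S : Subgroup T) = 2 := by
        refine (Monoid.exponent_eq_prime_iff Nat.prime_two).2 fun g hg => ?_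
        obtain ⟨j, hj, hj'⟩ := (Nat.dvd_prime_pow Nat.prime_two).1 (hm ▸ orderOf_dvd_natCard g)
        have : j ≠ 0 := fun h => hg (orderOf_eq_one_iff.1 (by rw [hj', h, pow_zero]))
        have : j ≠ 2 := fun h => hcyc (isCyclic_of_orderOf_eq_card g (by rw [hj', hm, h]))
        rw [hj', show j = 1 by omega, pow_one]
      have h4 : IsKleinFour (S : Subgroup T) := ⟨by simpa using hm, hexp⟩
      exact (hdih 2 le_rfl IsKleinFour.nonempty_mulEquiv).elim
    · obtain ⟨M, hM, hmem⟩ := exists_extremal_of_comm hcom hcyc hge hx hm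
      exact (not_simple_of_extremal hT S _ hn hx M hM hmem).elim
  · exact (hdih _ (Nat.le_self_pow (by omega) 2 |>.trans' le_rfl) hd).elim
  · refine absurd ?_ hT
    have hbs := CfsgLib.Involutions.brauer_suzuki S
      (Nat.le_self_pow (show n - 1 ≠ 0 by omega) 2) e (CfsgLib.Cores.oddCore_eq_bot_iff.2 hcore)
    rcases (Subgroup.Normal.eq_bot_or_eq_top (H := Subgroup.center T) inferInstance) with h | h
    · rw [h, Subgroup.card_bot] at hbs
      omega
    · exact isMulCommutative_iff.2 fun a b => Subgroup.mem_center_iff.1 (h ▸ Subgroup.mem_top b) a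
  · exact hqd
  · obtain ⟨M, hM, hmem⟩ := exists_extremal_of_modular hn3 hx hm hy hy2 hxy
    exact (not_simple_of_extremal hT S _ hn hx M hM hmem).elim

end CfsgLib.Jordan.AlmostCyclic
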